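/-
helper33: relative tor amplitude is local on source and base (ring level, general models of the
localizations).  `hasTorAmplitudeIn_local` (global ⟹ local), `hasTorAmplitudeIn_global`
(local ⟹ global; generalizes helper28's `hasTorAmplitudeIn_restrict_of_forall_maximal`),
`hasTorAmplitudeIn_of_resL_localization`, `extKResLIso`, `exactAt_extK_of_flat`.
-/
import Mathlib
import Groth.Agent.H28.TorAmpLocal
import Groth.Agent.H35.TorAmpFFlat
import Groth.Agent.H35.FlatBaseChangeD
import Groth.Agent.H35.FTDLocal

set_option autoImplicit false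
universe u
open CategoryTheory CategoryTheory.Limits MonoidalCategory TensorProduct

attribute [local instance] HasDerivedCategory.standard

namespace Groth.Agent.H33.TorLoc

open HomologicalComplex Groth.Agent.H35.KF Groth.Agent.H35.KFBC Groth.Agent.H35.LT DerivedCategory

section Counit

variable {R R' : Type u} [CommRing R] [CommRing R'] [Algebra R R'] (S : Submonoid R)
  [IsLocalization S R']

include S in
/-- restriction of scalars along a localization is full -/
lemma full_restrictScalars_of_isLocalization :
    (ModuleCat.restrictScalars.{u} (algebraMap R R')).Full where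
  map_surjective {M N} g := by
    let _ : Module R M := Module.compHom M (algebraMap R R')
    let _ : Module R N := Module.compHom N (algebraMap R R')
    have : IsScalarTower R R' M := ⟨fun r a x => by
      change (r • a) • x = algebraMap R R' r • (a • x)
      rw [Algebra.smul_def, mul_smul]⟩
    have : IsScalarTower R R' N := ⟨fun r a x => by
      change (r • a) • x = algebraMap R R' r • (a • x)
      rw [Algebra.smul_def, mul_smul]⟩
    let g₀ : M →ₗ[R] N := g.hom
    refine ⟨ModuleCat.ofHom (g₀.extendScalarsOfIsLocalization S R'), ?_⟩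
    ext x
    rfl

include S in
lemma isIso_counit_app (M : ModuleCat.{u} R') :
    IsIso ((ModuleCat.extendRestrictScalarsAdj.{u, u, u} (algebraMap R R')).counit.app M) := by
  have := full_restrictScalars_of_isLocalization (R' := R') S
  infer_instance

include S in
/-- `R' ⊗_R L ≅ L` for a complex `L` of modules over a localization `R'` of `R` -/
noncomputable def extKResLIso (L : CochainComplex (ModuleCat.{u} R') ℤ) :
    extK (algebraMap R R') (resL (algebraMap R R') L) ≅ L :=
  HomologicalComplex.Hom.isoOfComponents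
    (fun i => @asIso _ _ _ _ ((ModuleCat.extendRestrictScalarsAdj.{u, u, u}
      (algebraMap R R')).counit.app (L.X i)) (isIso_counit_app S (L.X i)))
    (fun i j _ => ((ModuleCat.extendRestrictScalarsAdj.{u, u, u}
      (algebraMap R R')).counit.naturality (L.d i j)).symm)

include S in
/-- tor amplitude over a localization can be tested over the base ring -/
theorem hasTorAmplitudeIn_of_resL_localization (L : CochainComplex (ModuleCat.{u} R') ℤ)
    (a b : ℤ) (h : DRing.HasTorAmplitudeIn R a b (Q.obj (resL (algebraMap R R') L))) :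
    DRing.HasTorAmplitudeIn R' a b (Q.obj L) := by
  have : Module.Flat R R' := IsLocalization.flat R' S
  obtain ⟨E, hE, hfl, ⟨e⟩⟩ :=
    hasTorAmplitudeIn_mapDerivedCategory_extendScalars (A := R) (B := R') _ a b h
  exact ⟨E, hE, hfl, ⟨e ≪≫
    (ModuleCat.extendScalars.{u, u, u} (algebraMap R R')).mapDerivedCategoryFactors.app _ ≪≫
    Q.mapIso (extKResLIso S L)⟩⟩

end Counit

section Flat

variable {R A A' : Type u} [CommRing R] [CommRing A] [CommRing A']

/-- flat base change preserves exactness -/
lemma exactAt_extK_of_flat (β : A →+* A') (hβ : β.Flat) (P : CochainComplex (ModuleCat.{u} A) ℤ)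
    (i : ℤ) (h : P.ExactAt i) : (extK β P).ExactAt i := by
  let _ : Algebra A A' := β.toAlgebra
  have : Module.Flat A A' := hβ
  change (extK (algebraMap A A') P).ExactAt i
  rw [exactAt_map_extendScalars_iff,
    tensExactAt_iff_of_iso P (Groth.Agent.H28.PCohRestrict.algebraRestrictIso A A').symm i,
    tensExactAt_iff_function_exact P A' (i - 1) i (i + 1) (by simp) (by simp)]
  rw [exactAt_iff' P (i - 1) i (i + 1) (by simp) (by simp),
    ShortComplex.ShortExact.moduleCat_exact_iff_function_exact] at h
  exact Module.Flat.rTensor_exact A' h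

/-- `restrict (A' ⊗_A F) ≅ A'[0] ⊗_A F`, ring hom form -/
noncomputable def resLExtKIso' (β : A →+* A') (F : CochainComplex (ModuleCat.{u} A) ℤ) :
    resL β (extK β F) ≅ sgl (BA β) ⊗ F :=
  letI : Algebra A A' := β.toAlgebra
  resLExtKIso (B := A') F

/-- localizing the algebra preserves the tor amplitude over the base -/
theorem hasTorAmplitudeIn_resL_resL_extK (φ : R →+* A) (β : A →+* A') (hβ : β.Flat)
    (K : CochainComplex (ModuleCat.{u} A) ℤ) (a b : ℤ)
    (h : DRing.HasTorAmplitudeIn R a b (Q.obj (resL φ K))) :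
    DRing.HasTorAmplitudeIn R a b (Q.obj (resL φ (resL β (extK β K)))) := by
  rw [hasTorAmplitudeIn_Q_iff] at h ⊢
  intro N G hG g hg i hi
  have h1 := h N G hG g hg i hi
  rw [← exactAt_iff_of_iso' (restrictTensorIso φ K G) i, exactAt_map_restrictScalars_iff] at h1
  rw [exactAt_iff_of_iso' (whiskerRightIso
      (((ModuleCat.restrictScalars φ).mapHomologicalComplex (ComplexShape.up ℤ)).mapIso
        (resLExtKIso' β K)) G) i,
    ← exactAt_iff_of_iso' (restrictTensorIso φ (sgl (BA β) ⊗ K) G) i,
    exactAt_map_restrictScalars_iff,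
    exactAt_iff_of_iso' (α_ (sgl (BA β)) K (extK φ G)) i,
    exactAt_iff_of_iso' (tensorSwapIso (sgl (BA β)) (K ⊗ extK φ G)) i,
    exactAt_tensor_sgl_iff, ← exactAt_map_extendScalars_iff]
  exact exactAt_extK_of_flat β hβ _ i h1

end Flat

section Main

variable {R A R' A' : Type u} [CommRing R] [CommRing A] [CommRing R'] [CommRing A']

/-- **global ⟹ local**: tor amplitude of `K` over `R` gives tor amplitude of a (flat) localization
of `K` over a localization of `R` -/
theorem hasTorAmplitudeIn_local (φ : R →+* A) (α : R →+* R') (β : A →+* A') (ψ : R' →+* A')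
    (hsq : ψ.comp α = β.comp φ) (S : Submonoid R)
    (hα : letI := α.toAlgebra; IsLocalization S R') (hβ : β.Flat)
    (K : CochainComplex (ModuleCat.{u} A) ℤ) (a b : ℤ)
    (h : DRing.HasTorAmplitudeIn R a b (Q.obj (resL φ K))) :
    DRing.HasTorAmplitudeIn R' a b (Q.obj (resL ψ (extK β K))) := by
  let _ : Algebra R R' := α.toAlgebra
  have : IsLocalization S R' := hα
  have h1 := hasTorAmplitudeIn_resL_resL_extK φ β hβ K a b h
  apply hasTorAmplitudeIn_of_resL_localization S
  change DRing.HasTorAmplitudeIn R a b (Q.obj (resL α (resL ψ (extK β K))))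
  have e : resL φ (resL β (extK β K)) ≅ resL α (resL ψ (extK β K)) :=
    ((NatIso.mapHomologicalComplex (ModuleCat.restrictScalarsComp' φ β (β.comp φ) rfl)
      (ComplexShape.up ℤ)).app _).symm ≪≫
    (NatIso.mapHomologicalComplex (ModuleCat.restrictScalarsComp' α ψ (β.comp φ) hsq.symm)
      (ComplexShape.up ℤ)).app _
  obtain ⟨E, hE, hfl, ⟨i⟩⟩ := h1
  exact ⟨E, hE, hfl, ⟨i ≪≫ Q.mapIso e⟩⟩

/-- exactness can be checked after localizing at all maximal ideals (any models of the
localizations) -/
lemma exactAt_of_forall_maximal' (T : CochainComplex (ModuleCat.{u} A) ℤ) (i : ℤ)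
    (h : ∀ (m : Ideal A) [m.IsMaximal], ∃ (A' : Type u) (_ : CommRing A') (β : A →+* A'),
      (letI := β.toAlgebra; IsLocalization.AtPrime A' m) ∧ (extK β T).ExactAt i) :
    T.ExactAt i := by
  apply Groth.Agent.H28.TorAmpLocal.exactAt_of_forall_maximal
  intro m hm
  obtain ⟨A', _, β, hloc, hex⟩ := h m
  let _ : Algebra A A' := β.toAlgebra
  have : IsLocalization.AtPrime A' m := hloc
  let e : A' ≃ₐ[A] Localization.AtPrime m :=
    IsLocalization.algEquiv m.primeCompl A' (Localization.AtPrime m)
  have hcomp : algebraMap A (Localization.AtPrime m) = (e : A' →+* Localization.AtPrime m).comp β := by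
    ext x
    exact (e.commutes x).symm
  have iso : extK (algebraMap A (Localization.AtPrime m)) T ≅
      extK (e : A' →+* Localization.AtPrime m) (extK β T) :=
    Groth.Agent.H28.TorAmpLocal.extKCongrIso _ _ hcomp T ≪≫
      Groth.Agent.H28.TorAmpLocal.extKCompIso β (e : A' →+* Localization.AtPrime m) T
  rw [exactAt_iff_of_iso' iso i]
  exact exactAt_extK_of_flat _ (RingHom.Flat.of_bijective e.bijective) _ i hex

/-- **local ⟹ global**: tor amplitude of `K` over `R` can be checked after localizing `K` at the
maximal ideals of `A` and `R` along any flat map compatible with it -/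
theorem hasTorAmplitudeIn_global (φ : R →+* A) (K : CochainComplex (ModuleCat.{u} A) ℤ) (a b : ℤ)
    (h : ∀ (m : Ideal A) [m.IsMaximal], ∃ (R' A' : Type u) (_ : CommRing R') (_ : CommRing A')
      (α : R →+* R') (β : A →+* A') (ψ : R' →+* A'), ψ.comp α = β.comp φ ∧ α.Flat ∧
      (letI := β.toAlgebra; IsLocalization.AtPrime A' m) ∧
      DRing.HasTorAmplitudeIn R' a b (Q.obj (resL ψ (extK β K)))) :
    DRing.HasTorAmplitudeIn R a b (Q.obj (resL φ K)) := by
  rw [hasTorAmplitudeIn_Q_iff]
  intro N G hG g hg i hi
  rw [← exactAt_iff_of_iso' (restrictTensorIso φ K G) i, exactAt_map_restrictScalars_iff]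
  apply exactAt_of_forall_maximal'
  intro m hm
  obtain ⟨R', A', _, _, α, β, ψ, hsq, hα, hloc, h3⟩ := h m
  refine ⟨A', inferInstance, β, hloc, ?_⟩
  rw [exactAt_map_extendScalars_iff, ← exactAt_tensor_sgl_iff,
    exactAt_iff_of_iso' (tensorSwapIso _ _) i,
    ← exactAt_iff_of_iso' (α_ (sgl (BA β)) K (extK φ G)) i,
    ← exactAt_iff_of_iso' (whiskerRightIso (resLExtKIso' β K) (extK φ G)) i,
    ← exactAt_iff_of_iso' (restrictTensorIso β (extK β K) (extK φ G)) i,
    exactAt_map_restrictScalars_iff]
  let G' := extK α G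
  let iso4 : extK β (extK φ G) ≅ extK ψ G' :=
    (Groth.Agent.H28.TorAmpLocal.extKCompIso φ β G).symm ≪≫
      Groth.Agent.H28.TorAmpLocal.extKCongrIso _ _ hsq.symm G ≪≫
      Groth.Agent.H28.TorAmpLocal.extKCompIso α ψ G
  rw [exactAt_iff_of_iso' (whiskerLeftIso (extK β K) iso4) i,
    ← exactAt_map_restrictScalars_iff ψ,
    exactAt_iff_of_iso' (restrictTensorIso ψ (extK β K) G') i]
  have hG' : IsKFlat G' := isKFlat_extendScalars α G hG
  let N' := (ModuleCat.extendScalars.{u, u, u} α).obj N
  let g' : G' ⟶ sgl N' := (extCx α).map g ≫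
    ((HomologicalComplex.singleMapHomologicalComplex (ModuleCat.extendScalars.{u, u, u} α)
      (ComplexShape.up ℤ) 0).app N).hom
  let _ : Algebra R R' := α.toAlgebra
  have : Module.Flat R R' := hα
  have hq : QuasiIso ((extCx (algebraMap R R')).map g) := inferInstance
  have hg' : QuasiIso g' := by
    change QuasiIso ((extCx (algebraMap R R')).map g ≫ _)
    infer_instance
  exact (hasTorAmplitudeIn_Q_iff _ a b).1 h3 N' G' hG' g' hg' i hi

end Main

end Groth.Agent.H33.TorLoc
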