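/-
helper33: stalkwise tor amplitude on schemes: restriction to opens (`hasFlatAmplitudeIn_restrict_of_stalks`),
pushforward along closed immersions (`hasTorAmplitudeIn_stalk_pushCx`), and from affine charts
(`hasTorAmplitudeAt_unit_of_hasTorDimLE`).
-/
import Mathlib
import Groth.Agent.H33.TorLoc.Ring
import Groth.Agent.H5.StalkTorAmp2
import Groth.Agent.H5.RelTorAmp
import Groth.Agent.H5.Stalk.PushClosed
import Groth.Agent.H5.FiniteTorDimCx
import Groth.Agent.H35.FTDLocal
import Groth.Agent.H35.PCHomLocal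

set_option autoImplicit false
universe u
open CategoryTheory CategoryTheory.Limits MonoidalCategory TensorProduct AlgebraicGeometry

attribute [local instance] HasDerivedCategory.standard

namespace Groth.Agent.H33.TorLoc

open HomologicalComplex Groth.Agent.H35.KF Groth.Agent.H35.KFBC Groth.Agent.H35.LT DerivedCategory
open Groth.Agent.H5.Stalk Groth.Agent.H5.StalkTorAmp Groth.Agent.H5.StalkTorAmp2

variable {X Y : Scheme.{u}}

/-- **Lemma L**: stalkwise tor amplitude at the points of an open `V` gives flat amplitude of the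
restriction to `V` -/
theorem hasFlatAmplitudeIn_restrict_of_stalks (F : CochainComplex X.Modules ℤ) (V : X.Opens)
    (a b : ℤ)
    (h : ∀ y : X, y ∈ V → DRing.HasTorAmplitudeIn (X.presheaf.stalk y) a b
      (DRing.toD ((sCx y).obj F))) :
    DCoh.HasFlatAmplitudeIn a b (DerivedCategory.Q.obj ((DCoh.restrictCx V).obj F)) := by
  apply Groth.Agent.H5.StalkTorAmp2.hasFlatAmplitudeIn_of_stalks
  intro w
  have h1 := h (V.ι w) w.2
  let _ : Algebra (X.presheaf.stalk (V.ι w)) ((V : Scheme.{u}).presheaf.stalk w) :=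
    (V.ι.stalkMap w).hom.toAlgebra
  have hfl : Module.Flat (X.presheaf.stalk (V.ι w)) ((V : Scheme.{u}).presheaf.stalk w) :=
    Flat.stalkMap V.ι w
  obtain ⟨E, hE, hEfl, ⟨e⟩⟩ := hasTorAmplitudeIn_mapDerivedCategory_extendScalars
    (A := X.presheaf.stalk (V.ι w)) (B := (V : Scheme.{u}).presheaf.stalk w) _ a b h1
  refine ⟨E, hE, hEfl, ⟨e ≪≫ (ModuleCat.extendScalars.{u, u, u}
    (algebraMap (X.presheaf.stalk (V.ι w)) ((V : Scheme.{u}).presheaf.stalk w))).mapDerivedCategoryFactors.app _ ≪≫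
    Q.mapIso ?_⟩⟩
  refine (sCxPullbackIso V.ι F w).symm ≪≫ (sCx w).mapIso ?_
  exact ((NatIso.mapHomologicalComplex (Scheme.Modules.restrictFunctorIsoPullback V.ι)
    (ComplexShape.up ℤ)).app F).symm

/-- **Lemma P**: the stalks of a pushforward along a closed immersion `i` have the tor amplitude
of the complex relative to `i` -/
theorem hasTorAmplitudeIn_stalk_pushCx (i : X ⟶ Y) [IsClosedImmersion i]
    (F : CochainComplex X.Modules ℤ) (a b : ℤ) (y : Y)
    (h : ∀ x : X, i x = y → DerSch.HasTorAmplitudeAt i a b F x) :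
    DRing.HasTorAmplitudeIn (Y.presheaf.stalk y) a b
      (DRing.toD ((sCx y).obj (((Scheme.Modules.pushforward i).mapHomologicalComplex
        (ComplexShape.up ℤ)).obj F))) := by
  by_cases hy : y ∈ Set.range i
  · obtain ⟨x, rfl⟩ := hy
    obtain ⟨E, hE, hfl, ⟨e⟩⟩ :=
      (Groth.Agent.H5.RelTorAmp.hasTorAmplitudeAt_iff i a b F x).1 (h x rfl)
    refine ⟨E, hE, hfl, ⟨e ≪≫ Q.mapIso ?_⟩⟩
    exact ((NatIso.mapHomologicalComplex (pushStalkNatIso i x) (ComplexShape.up ℤ)).app F).symm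
  · apply Groth.Agent.H5.FiniteTorDimCx.hasTorAmplitudeIn_of_isZero
    have hz : IsZero ((sCx y).obj (((Scheme.Modules.pushforward i).mapHomologicalComplex
        (ComplexShape.up ℤ)).obj F)) := by
      rw [IsZero.iff_id_eq_zero]
      ext n : 1
      exact (isZero_stalk_pushforward i i.isClosedEmbedding.isClosed_range y hy (F.X n)).eq_of_src
        _ _
    exact Q.map_isZero hz

/-- compatibility of germs, `appLE` and the stalk map -/
lemma stalkMap_comp_germ (f : X ⟶ Y) {U : X.Opens} {V : Y.Opens} (hUV : U ≤ f ⁻¹ᵁ V) (x : X)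
    (hx : x ∈ U) :
    (f.stalkMap x).hom.comp (Y.presheaf.germ V (f x) (hUV hx)).hom =
      (X.presheaf.germ U x hx).hom.comp (f.appLE V U hUV).hom := by
  have h : Y.presheaf.germ V (f x) (hUV hx) ≫ f.stalkMap x =
      f.appLE V U hUV ≫ X.presheaf.germ U x hx := by
    rw [Scheme.Hom.germ_stalkMap f V x (hUV hx), Scheme.Hom.appLE, Category.assoc,
      X.presheaf.germ_res]
  exact congrArg CommRingCat.Hom.hom h

/-- **Lemma T**: finite tor dimension of the ring map on an affine chart gives the stalkwise tor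
amplitude of the structure sheaf relative to `f` at the points of the chart -/
theorem hasTorAmplitudeAt_unit_of_hasTorDimLE (f : X ⟶ Y) {U : X.Opens} (hU : IsAffineOpen U)
    {V : Y.Opens} (hV : IsAffineOpen V) (hUV : U ≤ f ⁻¹ᵁ V) (n : ℕ)
    (h : letI := (f.appLE V U hUV).hom.toAlgebra
      DRing.HasTorDimLE Γ(Y, V) n Γ(X, U)) (x : X) (hx : x ∈ U) :
    DerSch.HasTorAmplitudeAt f (-(n : ℤ)) 0 (DerSch.unitCx X) x := by
  rw [Groth.Agent.H5.RelTorAmp.hasTorAmplitudeAt_iff]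
  let φ : Γ(Y, V) →+* Γ(X, U) := (f.appLE V U hUV).hom
  let α : Γ(Y, V) →+* Y.presheaf.stalk (f x) := (Y.presheaf.germ V (f x) (hUV hx)).hom
  let β : Γ(X, U) →+* X.presheaf.stalk x := (X.presheaf.germ U x hx).hom
  let ψ : Y.presheaf.stalk (f x) →+* X.presheaf.stalk x := (f.stalkMap x).hom
  let _ : Algebra Γ(Y, V) Γ(X, U) := φ.toAlgebra
  have hα : letI := α.toAlgebra
      IsLocalization.AtPrime (Y.presheaf.stalk (f x)) (hV.primeIdealOf ⟨f x, hUV hx⟩).asIdeal :=
    hV.isLocalization_stalk ⟨f x, hUV hx⟩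
  have hβ : β.Flat := by
    let _ : Algebra Γ(X, U) (X.presheaf.stalk x) := β.toAlgebra
    have : IsLocalization.AtPrime (X.presheaf.stalk x) (hU.primeIdealOf ⟨x, hx⟩).asIdeal :=
      hU.isLocalization_stalk ⟨x, hx⟩
    exact IsLocalization.flat _ (hU.primeIdealOf ⟨x, hx⟩).asIdeal.primeCompl
  let K : CochainComplex (ModuleCat.{u} Γ(X, U)) ℤ := sgl (ModuleCat.of Γ(X, U) Γ(X, U))
  have h0 : DRing.HasTorAmplitudeIn Γ(Y, V) (-(n : ℤ)) 0 (Q.obj (resL φ K)) := by
    have h1 := (hasTorDimLE_iff_hasTorAmplitudeIn (ModuleCat.of Γ(Y, V) Γ(X, U)) n).1 h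
    have e : Dual.inD Γ(Y, V) Γ(X, U) ≅ Q.obj (resL φ K) :=
      (DerivedCategory.singleFunctor (ModuleCat.{u} Γ(Y, V)) 0).mapIso
        (Groth.Agent.H28.PCohRestrict.algebraRestrictIso Γ(Y, V) Γ(X, U)).symm ≪≫
      (DerivedCategory.singleFunctorIsoCompQ (ModuleCat.{u} Γ(Y, V)) 0).app _ ≪≫
      Q.mapIso ((HomologicalComplex.singleMapHomologicalComplex
        (ModuleCat.restrictScalars φ) (ComplexShape.up ℤ) 0).app
          (ModuleCat.of Γ(X, U) Γ(X, U))).symm
    exact hasTorAmplitudeIn_of_iso e _ _ h1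
  have h2 := hasTorAmplitudeIn_local φ α β ψ (stalkMap_comp_germ f hUV x hx)
    (hV.primeIdealOf ⟨f x, hUV hx⟩).asIdeal.primeCompl hα hβ K _ _ h0
  obtain ⟨E, hE, hfl, ⟨i⟩⟩ := h2
  refine ⟨E, hE, hfl, ⟨i ≪≫ Q.mapIso
    (((ModuleCat.restrictScalars ψ).mapHomologicalComplex (ComplexShape.up ℤ)).mapIso ?_)⟩⟩
  let _ : Algebra Γ(X, U) (X.presheaf.stalk x) := β.toAlgebra
  exact (HomologicalComplex.singleMapHomologicalComplex
      (ModuleCat.extendScalars.{u, u, u} β) (ComplexShape.up ℤ) 0).app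
        (ModuleCat.of Γ(X, U) Γ(X, U)) ≪≫
    (HomologicalComplex.single _ (ComplexShape.up ℤ) 0).mapIso
      (Groth.Agent.H35.PCHomLocal.extendScalarsSelfIso (A := Γ(X, U)) (A' := X.presheaf.stalk x)) ≪≫
    (Groth.Agent.H5.RelTorAmp.sCxUnitIso x).symm

end Groth.Agent.H33.TorLoc
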