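/-
helper33: openness of finite tor dimension for pseudo-coherent ring maps.
`locCx` (localization of a complex, as a complex over the base), `exists_hasTorAmplitudeIn_locCx_powers`
(spreading out tor amplitude from a prime to a principal open), `exists_away_hasFiniteTorDim`
(if `B_q` has finite tor dimension over `R` so has `B_g` for some `g ∉ q`), and
`hasFiniteTorDim_of_forall_prime` (local-to-global over the primes of the target).
-/
import Mathlib
import Groth.Agent.H33.TorLoc.Ring
import Groth.Agent.H35.RelPerfOpcycles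
import Groth.Agent.H35.RelPerfFibreLib
import Groth.Agent.H32.ElemDevB
import Groth.Agent.S4865
import Groth.Agent.H35.PerfectHomPres

set_option autoImplicit false
universe u
open CategoryTheory CategoryTheory.Limits MonoidalCategory TensorProduct

attribute [local instance] HasDerivedCategory.standard

namespace Groth.Agent.H33.TorLoc

open HomologicalComplex DerivedCategory Groth.Agent.H35 Groth.Agent.H35.KF Groth.Agent.H35.KFBC
  Groth.Agent.H35.LT Groth.Agent.H35.RelPerfFibreLib Groth.Agent.H35.RelPerfFibreLoc
  Groth.Agent.H35.RelPerfOpcycles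

variable {R A : Type u} [CommRing R] [CommRing A] [Algebra R A]

/-- the complex `E` localized at `S`, as a complex of `R`-modules -/
noncomputable abbrev locCx (R : Type u) {A : Type u} [CommRing R] [CommRing A] [Algebra R A]
    (S : Submonoid A) (E : CochainComplex (ModuleCat.{u} A) ℤ) :
    CochainComplex (ModuleCat.{u} R) ℤ :=
  resL (algebraMap R (Localization S)) ((extCx (algebraMap A (Localization S))).obj E)

/-- converse of helper35's `flat_localized_opcycles_of_flat` -/
lemma flat_opcycles_locCx_of_flat (S : Submonoid A)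
    (E : CochainComplex (ModuleCat.{u} A) ℤ) (m : ℤ)
    (h : Module.Flat R (LocalizedModule S (RMod R (E.opcycles m)))) :
    Module.Flat R ((locCx R S E).opcycles m) := by
  have : Module.Flat A (Localization S) := IsLocalization.flat _ S
  have : PreservesFiniteLimits
      (ModuleCat.extendScalars.{u, u, u} (algebraMap A (Localization S))) :=
    ModuleCat.preservesFiniteLimits_extendScalars_of_flat
      ((RingHom.flat_algebraMap_iff).2 inferInstance)
  let e1 := Groth.Agent.H28.TorAmpWE.opcyclesRestrictIso (A := R) (B := Localization S)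
    ((extCx (algebraMap A (Localization S))).obj E) m
  let e2 : ((extCx (algebraMap A (Localization S))).obj E).opcycles m ≅
      (ModuleCat.extendScalars.{u, u, u} (algebraMap A (Localization S))).obj (E.opcycles m) :=
    ShortComplex.mapOpcyclesIso (E.sc m)
      (ModuleCat.extendScalars.{u, u, u} (algebraMap A (Localization S)))
  let e3 := Groth.Agent.H12.BC.bridge (B := Localization S) (E.opcycles m)
  let e4 : Localization S ⊗[A] (E.opcycles m) ≃ₗ[Localization S]
      Localization S ⊗[A] RMod R (E.opcycles m) :=
    TensorProduct.AlgebraTensorModule.congr (LinearEquiv.refl (Localization S) (Localization S))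
      (toRMod R (E.opcycles m))
  let e5 : Localization S ⊗[A] RMod R (E.opcycles m) ≃ₗ[Localization S]
      LocalizedModule S (RMod R (E.opcycles m)) :=
    (IsLocalizedModule.isBaseChange S (Localization S)
      (LocalizedModule.mkLinearMap S (RMod R (E.opcycles m)))).equiv
  let iso := e1 ≪≫ (ModuleCat.restrictScalars (algebraMap R (Localization S))).mapIso e2 ≪≫
    restrictIsoOfLinearEquiv (A := R) (B := Localization S) _
      (LocalizedModule S (RMod R (E.opcycles m))) (e3 ≪≫ₗ e4 ≪≫ₗ e5)
  exact Module.Flat.of_linearEquiv iso.toLinearEquiv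

section Basic

variable [Module.Flat R A] (S : Submonoid A) (E : CochainComplex (ModuleCat.{u} A) ℤ)

omit [Module.Flat R A] in
lemma isZero_locCx_X (c : ℤ) (hc : ∀ i, c < i → IsZero (E.X i)) (i : ℤ) (hi : c < i) :
    IsZero ((locCx R S E).X i) :=
  (ModuleCat.restrictScalars _).map_isZero
    ((ModuleCat.extendScalars.{u, u, u} (algebraMap A (Localization S))).map_isZero (hc i hi))

lemma flat_locCx_X (hfl : ∀ i, Module.Flat A (E.X i)) (i : ℤ) :
    Module.Flat R ((locCx R S E).X i) := by
  have : Module.Flat A (Localization S) := IsLocalization.flat _ S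
  have : Module.Flat R (Localization S) := Module.Flat.trans R A _
  have := hfl i
  have : Module.Flat (Localization S)
      (((extCx (algebraMap A (Localization S))).obj E).X i) := flat_extendScalars _ (E.X i)
  exact flat_restrictScalars_of_flat _

omit [Module.Flat R A] in
lemma exactAt_locCx (i : ℤ) (h : E.ExactAt i) : (locCx R S E).ExactAt i := by
  have : Module.Flat A (Localization S) := IsLocalization.flat _ S
  rw [exactAt_resL_iff]
  exact exactAt_extK_of_flat _ ((RingHom.flat_algebraMap_iff).2 inferInstance) E i h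

end Basic

/-- **Openness of relative tor amplitude**: if the localization of `E` at a prime `q` has tor
amplitude in `[a, b]` over `R`, so has the localization at some `g ∉ q` (in `[a, c]`). -/
theorem exists_hasTorAmplitudeIn_locCx_powers [Module.Flat R A] [Algebra.FinitePresentation R A]
    (E : CochainComplex (ModuleCat.{u} A) ℤ) (c : ℤ) (hc : ∀ i, c < i → IsZero (E.X i))
    (hff : ∀ i, Module.Finite A (E.X i) ∧ Module.Free A (E.X i))
    (a : ℤ) (hex : ∀ i, i < a → E.ExactAt i) (q : Ideal A) [hqp : q.IsPrime] (b : ℤ)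
    (hq : DRing.HasTorAmplitudeIn R a b (Q.obj (locCx R q.primeCompl E))) :
    ∃ g : A, g ∉ q ∧
      DRing.HasTorAmplitudeIn R a c (Q.obj (locCx R (Submonoid.powers g) E)) := by
  have hfl : ∀ i, Module.Flat A (E.X i) := fun i => by
    have := (hff i).2
    infer_instance
  -- flatness of the opcycles at `q`
  have hvq := torVanishing_of_hasTorAmplitudeIn _ a b hq (locCx R q.primeCompl E) c
    (isZero_locCx_X q.primeCompl E c hc) (flat_locCx_X q.primeCompl E hfl) (Iso.refl _)
  have hop := flat_opcycles (locCx R q.primeCompl E) a (flat_locCx_X q.primeCompl E hfl a)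
    (fun N => hvq N (a - 1) (Or.inl (by omega)))
  have h3 : Module.Flat R (LocalizedModule q.primeCompl (RMod R (E.opcycles a))) :=
    flat_localized_opcycles_of_flat q.primeCompl E a hop
  -- openness
  have : Module.FinitePresentation A (RMod R (E.opcycles a)) :=
    finitePresentation_rmod_opcycles R E a (hff _).1 (hff _).1 (hff _).2
  have hopen : IsOpen {q' : PrimeSpectrum A |
      Module.Flat R (LocalizedModule q'.asIdeal.primeCompl (RMod R (E.opcycles a)))} :=
    Groth.Agent.S4865.result (A := R) (B := A) (C := A) (RMod R (E.opcycles a))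
  have hmem : (⟨q, hqp⟩ : PrimeSpectrum A) ∈ {q' : PrimeSpectrum A |
      Module.Flat R (LocalizedModule q'.asIdeal.primeCompl (RMod R (E.opcycles a)))} := h3
  obtain ⟨U, ⟨g, rfl⟩, hqU, hU⟩ :=
    PrimeSpectrum.isTopologicalBasis_basic_opens.exists_subset_of_mem_open hmem hopen
  refine ⟨g, hqU, ?_⟩
  have h4 : Module.Flat R (LocalizedModule (Submonoid.powers g) (RMod R (E.opcycles a))) :=
    Groth.Agent.H32.ElemDevB.flat_powers_of_forall_prime (RMod R (E.opcycles a)) g
      (fun Q' hQ' hg => hU (show (⟨Q', hQ'⟩ : PrimeSpectrum A) ∈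
        (PrimeSpectrum.basicOpen g : Set _) from hg))
  exact hasTorAmplitudeIn_of_flat_opcycles (locCx R (Submonoid.powers g) E) a c
    (isZero_locCx_X _ E c hc) (flat_locCx_X _ E hfl)
    (fun i hi => exactAt_locCx _ E i (hex i hi))
    (flat_opcycles_locCx_of_flat _ E a h4)

/-- the localized complex of a resolution of `M` represents the localized module -/
noncomputable def locCxIso (S : Submonoid A) (E : CochainComplex (ModuleCat.{u} A) ℤ)
    (M : Type u) [AddCommGroup M] [Module A M] [Module R M] [IsScalarTower R A M]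
    (e : Q.obj E ≅ Dual.inD A M) :
    Q.obj (locCx R S E) ≅ Dual.inD R (LocalizedModule S M) :=
  have : Module.Flat A (Localization S) := IsLocalization.flat _ S
  let β := algebraMap A (Localization S)
  let iso1 : Q.obj ((extCx β).obj E) ≅ Dual.inD (Localization S) (Localization S ⊗[A] M) :=
    ((ModuleCat.extendScalars.{u, u, u} β).mapDerivedCategoryFactors.app E).symm ≪≫
      (ModuleCat.extendScalars.{u, u, u} β).mapDerivedCategory.mapIso e ≪≫
      inDBaseChangeIso (A := A) (B := Localization S) M
  let e5 : Localization S ⊗[A] M ≃ₗ[Localization S] LocalizedModule S M :=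
    (IsLocalizedModule.isBaseChange S (Localization S) (LocalizedModule.mkLinearMap S M)).equiv
  ((ModuleCat.restrictScalars.{u} (algebraMap R (Localization S))).mapDerivedCategoryFactors.app
      ((extCx β).obj E)).symm ≪≫
    (DRing.restrictD (algebraMap R (Localization S))).mapIso iso1 ≪≫
    ((ModuleCat.restrictScalars.{u} (algebraMap R (Localization S))).mapDerivedCategorySingleFunctor
      0).app _ ≪≫
    (DerivedCategory.singleFunctor (ModuleCat.{u} R) 0).mapIso
      (restrictIsoOfLinearEquiv (A := R) (B := Localization S)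
        (ModuleCat.of (Localization S) (Localization S ⊗[A] M)) (LocalizedModule S M) e5)

section RingLevel

variable {B : Type u} [CommRing B] [Algebra R B]

/-- `M[0]` only depends on `M` up to linear equivalence -/
noncomputable def inDIsoOfLinearEquiv {M M' : Type u} [AddCommGroup M] [Module R M]
    [AddCommGroup M'] [Module R M'] (e : M ≃ₗ[R] M') : Dual.inD R M ≅ Dual.inD R M' :=
  (DerivedCategory.singleFunctor (ModuleCat.{u} R) 0).mapIso e.toModuleIso

/-- **Openness of finite tor dimension** for pseudo-coherent ring maps: if `B_q` has finite tor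
dimension over `R` then so has `B_g` for some `g ∉ q`. -/
theorem exists_away_hasFiniteTorDim (hB : MoreMor.IsPseudoCoherentHom R B) (q : Ideal B)
    [q.IsPrime] (Bq : Type u) [CommRing Bq] [Algebra B Bq] [Algebra R Bq] [IsScalarTower R B Bq]
    [IsLocalization.AtPrime Bq q] (hq : DRing.HasFiniteTorDim R Bq) :
    ∃ g : B, g ∉ q ∧ ∀ (Bg : Type u) [CommRing Bg] [Algebra B Bg] [Algebra R Bg]
      [IsScalarTower R B Bg] [IsLocalization.Away g Bg], DRing.HasFiniteTorDim R Bg := by
  obtain ⟨n, φ, hφ, hpc⟩ := hB
  let P := MvPolynomial (Fin n) R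
  let _ : Algebra P B := φ.toRingHom.toAlgebra
  have hPB : ∀ p : P, algebraMap P B p = φ p := fun _ => rfl
  have : IsScalarTower R P B := IsScalarTower.of_algebraMap_eq (fun r => (φ.commutes r).symm)
  obtain ⟨E, c, hc, hff, ⟨e⟩⟩ := hpc
  let 𝔮 : Ideal P := q.comap (algebraMap P B)
  have h𝔮 : 𝔮.IsPrime := Ideal.comap_isPrime _ _
  -- exactness in negative degrees
  have hex : ∀ i : ℤ, i < 0 → E.ExactAt i := fun i hi => by
    rw [exactAt_iff_isZero_homology]
    exact IsZero.of_iso (DerivedCategory.isZero_of_isGE (Dual.inD P B) 0 i hi)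
      (((DerivedCategory.homologyFunctorFactors _ i).app E).symm ≪≫
        (DerivedCategory.homologyFunctor _ i).mapIso e)
  obtain ⟨d, hd⟩ := hq
  rw [hasTorDimLE_iff_hasTorAmplitudeIn] at hd
  -- the module structure of `Bq` over `P`
  let _ : Algebra P Bq := ((algebraMap B Bq).comp (algebraMap P B)).toAlgebra
  have : IsScalarTower P B Bq := IsScalarTower.of_algebraMap_eq (fun _ => rfl)
  have : IsScalarTower R P Bq := IsScalarTower.of_algebraMap_eq (fun r => by
    change algebraMap R Bq r = algebraMap B Bq (algebraMap P B (algebraMap R P r))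
    rw [← IsScalarTower.algebraMap_apply R P B, ← IsScalarTower.algebraMap_apply R B Bq])
  have hsub : Algebra.algebraMapSubmonoid B 𝔮.primeCompl = q.primeCompl := by
    ext x
    constructor
    · rintro ⟨p, hp, rfl⟩
      exact hp
    · intro hx
      obtain ⟨p, rfl⟩ := hφ x
      exact ⟨p, hx, rfl⟩
  have hloc : IsLocalizedModule 𝔮.primeCompl (IsScalarTower.toAlgHom P B Bq).toLinearMap := by
    rw [isLocalizedModule_iff_isLocalization, hsub]
    infer_instance
  let eq1 : LocalizedModule 𝔮.primeCompl B ≃ₗ[P] Bq :=
    IsLocalizedModule.iso 𝔮.primeCompl (IsScalarTower.toAlgHom P B Bq).toLinearMap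
  have hq' : DRing.HasTorAmplitudeIn R (-(d : ℤ)) 0 (Q.obj (locCx R 𝔮.primeCompl E)) :=
    hasTorAmplitudeIn_of_iso
      (locCxIso 𝔮.primeCompl E B e ≪≫ inDIsoOfLinearEquiv (eq1.restrictScalars R)).symm _ _ hd
  obtain ⟨h, hh, hT⟩ := exists_hasTorAmplitudeIn_locCx_powers E c hc hff (-(d : ℤ))
    (fun i hi => hex i (by omega)) 𝔮 0 hq'
  refine ⟨φ h, hh, ?_⟩
  -- identify the localization at `h`
  intro Bg _ _ _ _ _
  let _ : Algebra P Bg := ((algebraMap B Bg).comp (algebraMap P B)).toAlgebra
  have : IsScalarTower P B Bg := IsScalarTower.of_algebraMap_eq (fun _ => rfl)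
  have : IsScalarTower R P Bg := IsScalarTower.of_algebraMap_eq (fun r => by
    change algebraMap R Bg r = algebraMap B Bg (algebraMap P B (algebraMap R P r))
    rw [← IsScalarTower.algebraMap_apply R P B, ← IsScalarTower.algebraMap_apply R B Bg])
  have hsubg : Algebra.algebraMapSubmonoid B (Submonoid.powers h) = Submonoid.powers (φ h) := by
    change (Submonoid.powers h).map (algebraMap P B) = _
    rw [Submonoid.map_powers]
    rfl
  have hlocg : IsLocalizedModule (Submonoid.powers h)
      (IsScalarTower.toAlgHom P B Bg).toLinearMap := by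
    rw [isLocalizedModule_iff_isLocalization, hsubg]
    infer_instance
  let eq2 : LocalizedModule (Submonoid.powers h) B ≃ₗ[P] Bg :=
    IsLocalizedModule.iso (Submonoid.powers h) (IsScalarTower.toAlgHom P B Bg).toLinearMap
  exact Groth.Agent.H35.PolyTor.hasFiniteTorDim_of_hasTorAmplitudeIn Bg (-(d : ℤ)) c
    (hasTorAmplitudeIn_of_iso
      (locCxIso (Submonoid.powers h) E B e ≪≫ inDIsoOfLinearEquiv (eq2.restrictScalars R)) _ _ hT)

/-- **Local-to-global for finite tor dimension** of pseudo-coherent ring maps: it can be checked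
at the localizations at all primes of the target. -/
theorem hasFiniteTorDim_of_forall_prime (hB : MoreMor.IsPseudoCoherentHom R B)
    (h : ∀ (q : Ideal B) [q.IsPrime], ∃ (Bq : Type u) (_ : CommRing Bq) (_ : Algebra B Bq)
      (_ : Algebra R Bq) (_ : IsScalarTower R B Bq) (_ : IsLocalization.AtPrime Bq q),
      DRing.HasFiniteTorDim R Bq) :
    DRing.HasFiniteTorDim R B := by
  have h1 : ∀ q : PrimeSpectrum B, ∃ g : B, g ∉ q.asIdeal ∧
      DRing.HasFiniteTorDim R (Localization.Away g) := by
    intro q
    obtain ⟨Bq, _, _, _, _, _, hq⟩ := h q.asIdeal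
    obtain ⟨g, hg, hgT⟩ := exists_away_hasFiniteTorDim hB q.asIdeal Bq hq
    exact ⟨g, hg, hgT (Localization.Away g)⟩
  choose g hg hgT using h1
  rw [← Groth.Agent.H35.FTDLocal.qftd_algebraMap_iff]
  refine Groth.Agent.H35.FTDLocal.qftd_ofLocalizationSpanTarget (algebraMap R B) (Set.range g) ?_ ?_
  · by_contra hne
    obtain ⟨m, hm, hle⟩ := Ideal.exists_le_maximal _ hne
    exact hg ⟨m, hm.isPrime⟩ (hle (Ideal.subset_span ⟨⟨m, hm.isPrime⟩, rfl⟩))
  · rintro ⟨_, q, rfl⟩
    rw [← IsScalarTower.algebraMap_eq, Groth.Agent.H35.FTDLocal.qftd_algebraMap_iff]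
    exact hgT q

end RingLevel

end Groth.Agent.H33.TorLoc
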