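/-
helper33: S7175 — for a perfect closed immersion `i`, `i_* O_Z` is perfect
(`isPerfect_push_unit_of_isPerfectMor`); bridge `isNPseudoCoherent_of_isPseudoCoherentMor`
(MoreMor.IsPseudoCoherentMor f ⟹ DerSch.IsNPseudoCoherent f m for all m).
-/
import Mathlib
import Groth.Agent.H33.TorLoc.Affine
import Groth.Agent.H33.PCPush.ClosedRel
import Groth.Agent.H33.PCPush.UnitLevel
import Groth.Agent.H5.PerfectIff

set_option autoImplicit false
universe u
open CategoryTheory CategoryTheory.Limits MonoidalCategory TensorProduct AlgebraicGeometry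

attribute [local instance] HasDerivedCategory.standard

namespace Groth.Agent.H33.TorLoc

open HomologicalComplex DerivedCategory
open Groth.Agent.H5.Stalk Groth.Agent.H5.StalkTorAmp Groth.Agent.H5.StalkTorAmp2
open Groth.Agent.H33.PCPush Groth.Agent.H28.PCohRing Groth.Agent.H28.PCohDer

variable {X Y : Scheme.{u}}

/-- a pseudo-coherent morphism (all affine pairs, presentation form) is `m`-pseudo-coherent in the
chart form for every `m` -/
theorem isNPseudoCoherent_of_isPseudoCoherentMor (f : X ⟶ Y) [LocallyOfFiniteType f]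
    (hf : MoreMor.IsPseudoCoherentMor f) (m : ℤ) : DerSch.IsNPseudoCoherent f m := by
  refine isPseudoCoherentRel_of_forall f m _ (fun U V h => ?_)
  let _ : Algebra Γ(Y, (V : Y.Opens)) Γ(X, (U : X.Opens)) :=
    (f.appLE (V : Y.Opens) (U : X.Opens) h).hom.toAlgebra
  obtain ⟨n, φ, hφ, hpc⟩ := hf U V U.2 V.2 h
  refine ⟨n, φ.toRingHom, ⟨hφ, ?_⟩, ?_⟩
  · ext r
    exact φ.commutes r
  · rw [chartPC_unit_iff (U : X.Opens) U.2 (V : Y.Opens) φ.toRingHom hφ]
    let _ : Algebra (MvPolynomial (Fin n) Γ(Y, (V : Y.Opens))) Γ(X, (U : X.Opens)) :=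
      φ.toRingHom.toAlgebra
    have h1 := (isPseudoCoherent'_iff _ _).1 hpc m
    exact IsNPC.of_iso _ h1 ((DerivedCategory.singleFunctor _ 0).mapIso
      (Groth.Agent.H28.PCohRestrict.algebraRestrictIso
        (MvPolynomial (Fin n) Γ(Y, (V : Y.Opens))) Γ(X, (U : X.Opens))).symm)

/-- **S7175**: for a perfect closed immersion `i : Z ⟶ X`, `i_* O_Z` is a perfect object. -/
theorem isPerfect_push_unit_of_isPerfectMor {Z : Scheme.{u}} (i : Z ⟶ X) [IsClosedImmersion i]
    (hi : MoreMor.IsPerfectMor i) :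
    DCoh.IsPerfect (DCoh.inD X ((Scheme.Modules.pushforward i).obj (Coh.structureModule Z))) := by
  have hpcMor : MoreMor.IsPseudoCoherentMor i := fun U V hU hV hUV => (hi U V hU hV hUV).1
  have e0 : (pushD i).obj (DCoh.toD Z (DerSch.unitCx Z)) ≅
      DCoh.inD X ((Scheme.Modules.pushforward i).obj (Coh.structureModule Z)) :=
    (pushD i).mapIso ((DerivedCategory.singleFunctorIsoCompQ Z.Modules 0).app _).symm ≪≫
      ((Scheme.Modules.pushforward i).mapDerivedCategorySingleFunctor 0).app _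
  apply Groth.Agent.H5.PerfectIff.isPerfect_of_pc_of_locFiniteTorDim
  · intro m
    have h1 := isNPseudoCoherent_of_isPseudoCoherentMor i hpcMor m
    exact Groth.Agent.H5.PCTriangle.isPseudoCoherentD_of_iso e0 ((isPseudoCoherentRel_closedImmersion_iff i m _).1 h1)
  · intro x
    obtain ⟨(V : X.Opens), hV, hxV, -⟩ :=
      TopologicalSpace.Opens.isBasis_iff_nbhd.1 X.isBasis_affineOpens
        (TopologicalSpace.Opens.mem_top x)
    have hU : IsAffineOpen (i ⁻¹ᵁ V) := hV.preimage i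
    obtain ⟨-, n, hn⟩ := hi (i ⁻¹ᵁ V) V hU hV le_rfl
    refine ⟨V, -(n : ℤ), 0, hxV, fun F' ⟨eF'⟩ => ?_⟩
    apply hasFlatAmplitudeIn_restrict_of_stalks
    intro y hy
    have eQ : Q.obj F' ≅ Q.obj (((Scheme.Modules.pushforward i).mapHomologicalComplex
        (ComplexShape.up ℤ)).obj (DerSch.unitCx Z)) :=
      eF' ≪≫ e0.symm ≪≫ (Scheme.Modules.pushforward i).mapDerivedCategoryFactors.app _
    obtain ⟨E, hE, hfl, ⟨e⟩⟩ := hasTorAmplitudeIn_stalk_pushCx i (DerSch.unitCx Z) (-(n : ℤ)) 0 y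
      (fun z hz => hasTorAmplitudeAt_unit_of_hasTorDimLE i hU hV le_rfl n hn z
        (by subst hz; exact hy))
    exact ⟨E, hE, hfl, ⟨e ≪≫ (Groth.Agent.H5.PerfectTriangle.mapQIso (stalkFunctor y) eQ).symm⟩⟩

end Groth.Agent.H33.TorLoc
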