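/-
helper33: perfect morphisms and finite tor dimension of the stalks (S7174).
`hasTorDimLE_local` (tor dimension passes to localizations), `hasFiniteTorDim_stalk_of_isPerfectMor`,
`isPerfectMor_of_stalks`, `isPerfectMor_iff_stalks`.
-/
import Mathlib
import Groth.Agent.H33.TorLoc.Open
import Groth.Agent.H33.TorLoc.Affine
import Groth.Agent.H35.PerfMorLocal

set_option autoImplicit false
universe u
open CategoryTheory CategoryTheory.Limits MonoidalCategory TensorProduct AlgebraicGeometry

attribute [local instance] HasDerivedCategory.standard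

namespace Groth.Agent.H33.TorLoc

open HomologicalComplex Groth.Agent.H35 Groth.Agent.H35.KF Groth.Agent.H35.KFBC Groth.Agent.H35.LT
  DerivedCategory

section RingLocal

variable {R A R' A' : Type u} [CommRing R] [CommRing A] [CommRing R'] [CommRing A']

/-- `A[0]` over `R` as the restriction of the stalk complex of `A` -/
noncomputable def inDResLIso (R A : Type u) [CommRing R] [CommRing A] [Algebra R A] :
    Dual.inD R A ≅ Q.obj (resL (algebraMap R A) (sgl (ModuleCat.of A A))) :=
  (DerivedCategory.singleFunctor (ModuleCat.{u} R) 0).mapIso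
      (Groth.Agent.H28.PCohRestrict.algebraRestrictIso R A) ≪≫
    (DerivedCategory.singleFunctorIsoCompQ (ModuleCat.{u} R) 0).app _ ≪≫
    Q.mapIso ((HomologicalComplex.singleMapHomologicalComplex
      (ModuleCat.restrictScalars (algebraMap R A)) (ComplexShape.up ℤ) 0).app
        (ModuleCat.of A A)).symm

/-- extension of scalars of the stalk complex of `A` -/
noncomputable def extKSglSelfIso (A A' : Type u) [CommRing A] [CommRing A'] [Algebra A A'] :
    extK (algebraMap A A') (sgl (ModuleCat.of A A)) ≅ sgl (ModuleCat.of A' A') :=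
  (HomologicalComplex.singleMapHomologicalComplex
      (ModuleCat.extendScalars.{u, u, u} (algebraMap A A')) (ComplexShape.up ℤ) 0).app
        (ModuleCat.of A A) ≪≫
    (HomologicalComplex.single _ (ComplexShape.up ℤ) 0).mapIso
      (Groth.Agent.H35.PCHomLocal.extendScalarsSelfIso (A := A) (A' := A'))

/-- tor dimension passes to localizations of the base and flat localizations of the target -/
theorem hasTorDimLE_local (φ : R →+* A) (α : R →+* R') (β : A →+* A') (ψ : R' →+* A')
    (hsq : ψ.comp α = β.comp φ) (S : Submonoid R)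
    (hα : letI := α.toAlgebra; IsLocalization S R') (hβ : β.Flat) (n : ℕ)
    (h : letI := φ.toAlgebra; DRing.HasTorDimLE R n A) :
    letI := ψ.toAlgebra; DRing.HasTorDimLE R' n A' := by
  let _ : Algebra R A := φ.toAlgebra
  let _ : Algebra R' A' := ψ.toAlgebra
  let _ : Algebra A A' := β.toAlgebra
  have h0 : DRing.HasTorAmplitudeIn R (-(n : ℤ)) 0
      (Q.obj (resL φ (sgl (ModuleCat.of A A)))) :=
    hasTorAmplitudeIn_of_iso (inDResLIso R A) _ _
      ((hasTorDimLE_iff_hasTorAmplitudeIn (ModuleCat.of R A) n).1 h)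
  have h2 := hasTorAmplitudeIn_local φ α β ψ hsq S hα hβ _ _ _ h0
  have e : Q.obj (resL ψ (extK β (sgl (ModuleCat.of A A)))) ≅ Dual.inD R' A' :=
    Q.mapIso (((ModuleCat.restrictScalars ψ).mapHomologicalComplex (ComplexShape.up ℤ)).mapIso
      (extKSglSelfIso A A')) ≪≫ (inDResLIso R' A').symm
  exact (hasTorDimLE_iff_hasTorAmplitudeIn (ModuleCat.of R' A') n).2
    (hasTorAmplitudeIn_of_iso e _ _ h2)

end RingLocal

variable {X S : Scheme.{u}}

/-- a perfect morphism has finite tor dimension at all stalks -/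
theorem hasFiniteTorDim_stalk_of_isPerfectMor (f : X ⟶ S) (hf : MoreMor.IsPerfectMor f) (x : X) :
    letI := (f.stalkMap x).hom.toAlgebra
    DRing.HasFiniteTorDim (S.presheaf.stalk (f x)) (X.presheaf.stalk x) := by
  obtain ⟨V, hV, hxV, -⟩ := TopologicalSpace.Opens.isBasis_iff_nbhd.mp S.isBasis_affineOpens
    (show f x ∈ (⊤ : S.Opens) from trivial)
  obtain ⟨U, hU, hxU, hUV⟩ := TopologicalSpace.Opens.isBasis_iff_nbhd.mp X.isBasis_affineOpens
    (show x ∈ f ⁻¹ᵁ V from hxV)
  obtain ⟨-, n, hn⟩ := hf U V hU hV hUV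
  have hβ : (X.presheaf.germ U x hxU).hom.Flat := by
    let _ : Algebra Γ(X, U) (X.presheaf.stalk x) := (X.presheaf.germ U x hxU).hom.toAlgebra
    have : IsLocalization.AtPrime (X.presheaf.stalk x) (hU.primeIdealOf ⟨x, hxU⟩).asIdeal :=
      hU.isLocalization_stalk ⟨x, hxU⟩
    exact IsLocalization.flat _ (hU.primeIdealOf ⟨x, hxU⟩).asIdeal.primeCompl
  exact ⟨n, hasTorDimLE_local (f.appLE V U hUV).hom (S.presheaf.germ V (f x) (hUV hxU)).hom
    (X.presheaf.germ U x hxU).hom (f.stalkMap x).hom (stalkMap_comp_germ f hUV x hxU)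
    (hV.primeIdealOf ⟨f x, hUV hxU⟩).asIdeal.primeCompl
    (hV.isLocalization_stalk ⟨f x, hUV hxU⟩) hβ n hn⟩

/-- a pseudo-coherent morphism with finite tor dimension at all stalks is perfect -/
theorem isPerfectMor_of_stalks (f : X ⟶ S) (hf : MoreMor.IsPseudoCoherentMor f)
    (h : ∀ x : X, letI := (f.stalkMap x).hom.toAlgebra
      DRing.HasFiniteTorDim (S.presheaf.stalk (f x)) (X.presheaf.stalk x)) :
    MoreMor.IsPerfectMor f := by
  intro U V hU hV hUV
  let _ : Algebra Γ(S, V) Γ(X, U) := (f.appLE V U hUV).hom.toAlgebra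
  refine ⟨hf U V hU hV hUV, ?_⟩
  apply hasFiniteTorDim_of_forall_prime (hf U V hU hV hUV)
  intro q hq
  let y : PrimeSpectrum Γ(X, U) := ⟨q, hq⟩
  let x : X := hU.fromSpec y
  have hx : x ∈ U := (hU.isoSpec.inv y).2
  let _ : Algebra Γ(X, U) (X.presheaf.stalk x) := (X.presheaf.germ U x hx).hom.toAlgebra
  let _ : Algebra Γ(S, V) (X.presheaf.stalk x) :=
    ((X.presheaf.germ U x hx).hom.comp (f.appLE V U hUV).hom).toAlgebra
  have : IsScalarTower Γ(S, V) Γ(X, U) (X.presheaf.stalk x) :=
    IsScalarTower.of_algebraMap_eq (fun _ => rfl)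
  have hloc : IsLocalization.AtPrime (X.presheaf.stalk x) q := hU.isLocalization_stalk' y hx
  refine ⟨X.presheaf.stalk x, inferInstance, inferInstance, inferInstance, inferInstance, hloc, ?_⟩
  -- through the local ring of `S`
  let _ : Algebra Γ(S, V) (S.presheaf.stalk (f x)) :=
    (S.presheaf.germ V (f x) (hUV hx)).hom.toAlgebra
  let _ : Algebra (S.presheaf.stalk (f x)) (X.presheaf.stalk x) := (f.stalkMap x).hom.toAlgebra
  have : IsScalarTower Γ(S, V) (S.presheaf.stalk (f x)) (X.presheaf.stalk x) :=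
    IsScalarTower.of_algebraMap_eq (fun r => by
      have := congrArg (fun g => g r) (stalkMap_comp_germ f hUV x hx)
      exact this.symm)
  have hfl : Module.Flat Γ(S, V) (S.presheaf.stalk (f x)) := by
    have : IsLocalization.AtPrime (S.presheaf.stalk (f x))
        (hV.primeIdealOf ⟨f x, hUV hx⟩).asIdeal := hV.isLocalization_stalk ⟨f x, hUV hx⟩
    exact IsLocalization.flat _ (hV.primeIdealOf ⟨f x, hUV hx⟩).asIdeal.primeCompl
  exact Groth.Agent.H35.FTDLocal.hasFiniteTorDim_trans
    ⟨0, (Groth.Agent.H35.KF.hasTorDimLE_zero_iff_flat _).2 hfl⟩ (h x)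

/-- **S7174** -/
theorem isPerfectMor_iff_stalks (f : X ⟶ S) (hf : MoreMor.IsPseudoCoherentMor f) :
    MoreMor.IsPerfectMor f ↔ ∀ x : X,
      (letI := (f.stalkMap x).hom.toAlgebra
       DRing.HasFiniteTorDim ↑(S.presheaf.stalk (f x)) ↑(X.presheaf.stalk x)) :=
  ⟨fun h x => hasFiniteTorDim_stalk_of_isPerfectMor f h x, isPerfectMor_of_stalks f hf⟩

end Groth.Agent.H33.TorLoc
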