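/-
helper33: S7259 — on `Spec A → Spec R`, the stalkwise tor amplitude of `M^~` relative to the
morphism is the tor amplitude of `M` over `R` (`hasTorAmplitude_spec_iff`).  Also
`stalkMap_comp_toStalkHom`, `isLocalization_toStalkHom`, `flat_toStalkHom`.
-/
import Mathlib
import Groth.Agent.H33.TorLoc.Ring
import Groth.Agent.H5.TildeTorAmp
import Groth.Agent.H5.RelTorAmp

set_option autoImplicit false
universe u
open CategoryTheory CategoryTheory.Limits MonoidalCategory TensorProduct AlgebraicGeometry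

attribute [local instance] HasDerivedCategory.standard

namespace Groth.Agent.H33.TorLoc

open HomologicalComplex Groth.Agent.H35.KF Groth.Agent.H35.KFBC Groth.Agent.H35.LT DerivedCategory
open Groth.Agent.H5.Stalk Groth.Agent.H5.StalkTorAmp Groth.Agent.H5.TildeTorAmp

section Loc

variable (R : CommRingCat.{u})

/-- the local ring of `Spec R` at `y` is the localization of `R` at `y` -/
lemma isLocalization_toStalkHom (y : PrimeSpectrum R) :
    letI := (toStalkHom R y).toAlgebra
    IsLocalization.AtPrime ((Spec (CommRingCat.of R)).presheaf.stalk y) y.asIdeal :=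
  StructureSheaf.IsLocalization.to_stalk (R := R) y

lemma flat_toStalkHom (y : PrimeSpectrum R) : (toStalkHom R y).Flat := by
  let _ : Algebra R ((Spec (CommRingCat.of R)).presheaf.stalk y) := (toStalkHom R y).toAlgebra
  have := isLocalization_toStalkHom R y
  exact IsLocalization.flat _ y.asIdeal.primeCompl

end Loc

variable {R A : CommRingCat.{u}} (φ : R →+* A)

/-- the stalk map of `Spec φ` is compatible with the maps to the stalks -/
lemma stalkMap_comp_toStalkHom (x : Spec (CommRingCat.of A)) :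
    ((Spec.map (CommRingCat.ofHom φ)).stalkMap x).hom.comp
        (toStalkHom R ((Spec.map (CommRingCat.ofHom φ)) x)) = (toStalkHom A x).comp φ := by
  let f := Spec.map (CommRingCat.ofHom φ)
  have h : ((Scheme.ΓSpecIso (CommRingCat.of R)).inv ≫
      (Spec (CommRingCat.of R)).presheaf.germ ⊤ (f x) (Set.mem_univ _)) ≫ f.stalkMap x =
      CommRingCat.ofHom φ ≫ ((Scheme.ΓSpecIso (CommRingCat.of A)).inv ≫
        (Spec (CommRingCat.of A)).presheaf.germ ⊤ x (Set.mem_univ _)) := by
    rw [Category.assoc, Scheme.Hom.germ_stalkMap f ⊤ x (Set.mem_univ _),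
      Scheme.ΓSpecIso_inv_naturality_assoc]
    rfl
  exact congrArg CommRingCat.Hom.hom h

/-- **S7259**: on `Spec A → Spec R`, the stalkwise tor amplitude of `M^~` relative to the
morphism is the tor amplitude of `M` over `R`. -/
theorem hasTorAmplitude_spec_iff [PreservesFiniteLimits (tilde.functor A)]
    (M : DerivedCategory (ModuleCat.{u} A)) (F : CochainComplex (Spec (CommRingCat.of A)).Modules ℤ)
    (hF : Nonempty (DCoh.toD (Spec (CommRingCat.of A)) F ≅ (DCoh.tildeD A).obj M)) (a b : ℤ) :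
    DerSch.HasTorAmplitude (Spec.map (CommRingCat.ofHom φ)) a b F ↔
      DRing.HasTorAmplitudeIn R a b ((DRing.restrictD φ).obj M) := by
  let f := Spec.map (CommRingCat.ofHom φ)
  let K := Q.objPreimage M
  have eK : Q.obj K ≅ M := Q.objObjPreimageIso M
  obtain ⟨eF⟩ := hF
  let T := ((tilde.functor A).mapHomologicalComplex (ComplexShape.up ℤ)).obj K
  have eFT : Q.obj F ≅ Q.obj T :=
    eF ≪≫ (DCoh.tildeD A).mapIso eK.symm ≪≫ (tilde.functor A).mapDerivedCategoryFactors.app K
  have eR : (DRing.restrictD φ).obj M ≅ Q.obj (resL φ K) :=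
    (DRing.restrictD φ).mapIso eK.symm ≪≫
      (ModuleCat.restrictScalars.{u} φ).mapDerivedCategoryFactors.app K
  have key : ∀ x : Spec (CommRingCat.of A), DerSch.HasTorAmplitudeAt f a b F x ↔
      DRing.HasTorAmplitudeIn ((Spec (CommRingCat.of R)).presheaf.stalk (f x)) a b
        (Q.obj (resL (f.stalkMap x).hom (extK (toStalkHom A x) K))) := by
    intro x
    rw [Groth.Agent.H5.RelTorAmp.hasTorAmplitudeAt_iff]
    have e1 : Q.obj (resL (f.stalkMap x).hom ((sCx x).obj F)) ≅
        Q.obj (resL (f.stalkMap x).hom (extK (toStalkHom A x) K)) :=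
      Groth.Agent.H5.PerfectTriangle.mapQIso (ModuleCat.restrictScalars (f.stalkMap x).hom)
        (Groth.Agent.H5.PerfectTriangle.mapQIso (stalkFunctor x) eFT ≪≫
          Q.mapIso (sCxTildeIso A K x))
    constructor
    · rintro ⟨E, hE, hfl, ⟨i⟩⟩
      exact ⟨E, hE, hfl, ⟨i ≪≫ e1⟩⟩
    · rintro ⟨E, hE, hfl, ⟨i⟩⟩
      exact ⟨E, hE, hfl, ⟨i ≪≫ e1.symm⟩⟩
  constructor
  · intro h
    have h2 : DRing.HasTorAmplitudeIn R a b (Q.obj (resL φ K)) := by
      apply hasTorAmplitudeIn_global φ K a b
      intro m hm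
      let x : Spec (CommRingCat.of A) := ⟨m, hm.isPrime⟩
      exact ⟨_, _, inferInstance, inferInstance, toStalkHom R (f x),
        toStalkHom A x, (f.stalkMap x).hom, stalkMap_comp_toStalkHom φ x,
        flat_toStalkHom R (f x), isLocalization_toStalkHom A x, (key x).1 (h x)⟩
    obtain ⟨E, hE, hfl, ⟨i⟩⟩ := h2
    exact ⟨E, hE, hfl, ⟨i ≪≫ eR.symm⟩⟩
  · intro h x
    rw [key x]
    have h2 : DRing.HasTorAmplitudeIn R a b (Q.obj (resL φ K)) := by
      obtain ⟨E, hE, hfl, ⟨i⟩⟩ := h
      exact ⟨E, hE, hfl, ⟨i ≪≫ eR⟩⟩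
    let y : PrimeSpectrum R := f x
    exact hasTorAmplitudeIn_local φ (toStalkHom R (f x))
      (toStalkHom A x) (f.stalkMap x).hom (stalkMap_comp_toStalkHom φ x)
      y.asIdeal.primeCompl (isLocalization_toStalkHom R y)
      (flat_toStalkHom A x) K a b h2

end Groth.Agent.H33.TorLoc
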